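import Cfsg.Agent.Lib.Helper29.GLK.Defs
import Cfsg.Agent.Lib.Helper25.GLKC

/-!
# Project SLK (S2479): bounds for `k(SL_n(q))` — shared definitions

Built on the GLK library (S2478): a matrix `x` has invariants `T = (T_0, …, T_{n-1})`
(`IsInv x T`, `T i` = product of the normalised irreducibles `p_j` with block size `e_j = i + 1`).

* `tupFin F n`  : the finite set of tuples `tupSet F n 1 n` as a `Finset`;
* `tdet T`      : the determinant of any matrix with invariants `T`;
* `tE T`        : gcd of the occurring block sizes `i + 1` (those with `deg T_i ≠ 0`);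
* `tg q T`      : `gcd (tE T) (q - 1)` (bound for the number of `SL`-classes in the `GL`-class);
* `tsc c T`     : scale the constant term of every occurring `T_i` by `c_i`;
* `tchi T`      : the character `c ↦ ∏_{i occurring} c_i^(i+1)` of the torus `(Fˣ)^n`;
* `sm a M`      : multiplication by the polynomial `a` on an `F[X]`-module, as an `F`-linear map;
* `dmul g a`    : componentwise multiplication by `a j` on `⊕ F[X]/(g j)`;
* `slFib x`     : the `SL`-classes inside the `GL`-class of `x`.
-/

set_option autoImplicit false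

namespace Cfsg.Agent.Lib.Helper1.SLK

open Polynomial
open Cfsg.Agent.Lib.Helper29.GLK

universe u

/-- the finite set of tuples `(T_0, …, T_{n-1})` of monic polynomials with nonzero constant term
and `∑ (1 + i) deg T_i = n` -/
noncomputable def tupFin (F : Type u) [Field F] [Fintype F] (n : ℕ) : Finset (Fin n → F[X]) :=
  (tupSet_card_le F n 1 n le_rfl).1.toFinset

theorem mem_tupFin {F : Type u} [Field F] [Fintype F] {n : ℕ} {T : Fin n → F[X]} :
    T ∈ tupFin F n ↔ T ∈ tupSet F n 1 n :=
  Set.Finite.mem_toFinset _

/-- the determinant attached to a tuple -/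
noncomputable def tdet {F : Type u} [Field F] {n : ℕ} (T : Fin n → F[X]) : F :=
  ∏ i : Fin n, ((-1) ^ (T i).natDegree * (T i).coeff 0) ^ ((i : ℕ) + 1)

/-- the gcd of the occurring block sizes -/
noncomputable def tE {F : Type u} [Field F] {n : ℕ} (T : Fin n → F[X]) : ℕ :=
  (Finset.univ.filter (fun i : Fin n => (T i).natDegree ≠ 0)).gcd (fun i => (i : ℕ) + 1)

/-- the bound for the number of `SL`-classes inside the `GL`-class with invariants `T` -/
noncomputable def tg {F : Type u} [Field F] (q : ℕ) {n : ℕ} (T : Fin n → F[X]) : ℕ :=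
  Nat.gcd (tE T) (q - 1)

/-- scaling the constant term of every occurring `T i` by `c i` -/
noncomputable def tsc {F : Type u} [Field F] {n : ℕ} (c : Fin n → Fˣ) (T : Fin n → F[X]) :
    Fin n → F[X] :=
  fun i => if (T i).natDegree = 0 then T i else T i + C (((c i : F) - 1) * (T i).coeff 0)

/-- the character `c ↦ ∏_{i occurring} c_i ^ (i + 1)` of the torus -/
noncomputable def tchi {F : Type u} [Field F] {n : ℕ} (T : Fin n → F[X]) :
    (Fin n → Fˣ) →* Fˣ where
  toFun c := ∏ i ∈ Finset.univ.filter (fun i : Fin n => (T i).natDegree ≠ 0), c i ^ ((i : ℕ) + 1)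
  map_one' := by simp
  map_mul' c c' := by
    simp only [Pi.mul_apply, mul_pow]
    exact Finset.prod_mul_distrib

/-- multiplication by the polynomial `a` on an `F[X]`-module, as an `F`-linear map -/
noncomputable def sm {F : Type u} [Field F] (a : F[X]) (M : Type*) [AddCommGroup M] [Module F M]
    [Module F[X] M] [IsScalarTower F F[X] M] : M →ₗ[F] M :=
  (LinearMap.lsmul F[X] M a).restrictScalars F

@[simp] theorem sm_apply {F : Type u} [Field F] (a : F[X]) (M : Type*) [AddCommGroup M]
    [Module F M] [Module F[X] M] [IsScalarTower F F[X] M] (m : M) : sm a M m = a • m := rfl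

/-- componentwise multiplication by `a j` on `⊕ F[X]/(g j)` (an `F[X]`-linear endomorphism) -/
noncomputable def dmul {F : Type u} [Field F] {ι : Type*} (g a : ι → F[X]) :
    (DirectSum ι fun j => F[X] ⧸ Ideal.span {g j}) →ₗ[F[X]]
      (DirectSum ι fun j => F[X] ⧸ Ideal.span {g j}) :=
  DirectSum.lmap (fun j => LinearMap.lsmul F[X] (F[X] ⧸ Ideal.span {g j}) (a j))

/-- the `SL`-classes inside the `GL`-class of `x` -/
def slFib {F : Type u} [Field F] {n : ℕ} (x : Matrix.SpecialLinearGroup (Fin n) F) :
    Set (ConjClasses (Matrix.SpecialLinearGroup (Fin n) F)) :=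
  {c | ConjClasses.map (Matrix.SpecialLinearGroup.toGL : _ →* Matrix.GeneralLinearGroup (Fin n) F) c
      = ConjClasses.mk (Matrix.SpecialLinearGroup.toGL x)}

end Cfsg.Agent.Lib.Helper1.SLK
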